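import Cfsg.Agent.J4Rep94.B1320.Check0
import Cfsg.Agent.J4Rep94.S0.Cert
import Cfsg.Agent.J4Rep94.S1.Cert
import Cfsg.Agent.J4Rep94.S2.Cert
import Cfsg.Agent.J4Rep94.S3.Cert
import Cfsg.Agent.J4Rep94.S4.Cert

/-!
# Certificate data
-/

set_option autoImplicit false
set_option maxRecDepth 100000

namespace Cfsg.Agent.J4Rep94.B1320

open Cfsg.Agent.CosetEnum

theorem dok0 : allRange sys.checkDef 0 2048 = true := by decide +kernel

theorem dok1 : allRange sys.checkDef 2048 2048 = true := by decide +kernel

theorem dok2 : allRange sys.checkDef 4096 800 = true := by decide +kernel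

def fchunks : List (ℕ × ℕ) := [(128, fv0), (128, fv1), (128, fv2), (128, fv3), (128, fv4), (128, fv5), (128, fv6), (128, fv7)]

theorem defsOK : sys.DefsOK 0 [2048,2048,800] := ⟨dok0, dok1, dok2, trivial⟩

theorem factsOK : sys.FactsOK 4896 fchunks := ⟨fok0, fok1, fok2, fok3, fok4, fok5, fok6, fok7, trivial⟩

theorem rules_ok : sys.rules.all (fun R => R.check sys rels subs) = true := by decide +kernel

theorem rels_one : ∀ W ∈ rels, evalWord val7 W = 1 :=
  List.forall_mem_append.2 ⟨val7_base, List.forall_mem_cons.2 ⟨S0.result_word, List.forall_mem_cons.2 ⟨S1.result_word, List.forall_mem_cons.2 ⟨S2.result_word, List.forall_mem_cons.2 ⟨S3.result_word, List.forall_mem_cons.2 ⟨S4.result_word, List.forall_mem_nil _⟩⟩⟩⟩⟩⟩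

def mchunks : List (ℕ × ℕ) := [(24, mv0), (24, mv1), (24, mv2), (24, mv3), (24, mv4), (24, mv5), (24, mv6), (24, mv7), (24, mv8), (24, mv9), (24, mv10), (24, mv11), (24, mv12), (24, mv13), (24, mv14), (24, mv15), (24, mv16), (24, mv17), (24, mv18), (24, mv19), (24, mv20), (24, mv21), (24, mv22), (24, mv23), (24, mv24), (24, mv25), (24, mv26), (24, mv27), (24, mv28), (24, mv29), (24, mv30), (24, mv31), (24, mv32), (24, mv33), (24, mv34), (24, mv35), (24, mv36), (24, mv37), (24, mv38), (24, mv39), (24, mv40), (24, mv41), (24, mv42), (24, mv43), (24, mv44), (24, mv45), (24, mv46), (24, mv47), (24, mv48), (24, mv49), (24, mv50), (24, mv51), (24, mv52), (24, mv53), (24, mv54)]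

theorem mainOK : MainOK sys 5920 reps 1320 gens 0 mchunks := ⟨mok0, mok1, mok2, mok3, mok4, mok5, mok6, mok7, mok8, mok9, mok10, mok11, mok12, mok13, mok14, mok15, mok16, mok17, mok18, mok19, mok20, mok21, mok22, mok23, mok24, mok25, mok26, mok27, mok28, mok29, mok30, mok31, mok32, mok33, mok34, mok35, mok36, mok37, mok38, mok39, mok40, mok41, mok42, mok43, mok44, mok45, mok46, mok47, mok48, mok49, mok50, mok51, mok52, mok53, mok54, trivial⟩

theorem result_index : (wspan val7 subs).relIndex (wspan val7 gens) ≠ 0 ∧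
    (wspan val7 subs).relIndex (wspan val7 gens) ≤ 1320 :=
  relIndex_le_of_cert (val7_letters (S := sys) rfl (by decide +kernel)) rels_one subs rules_ok [2048,2048,800] fchunks mchunks defsOK (by decide)
    factsOK (hfs := (by decide +kernel : 4896 + (fchunks.map Prod.fst).sum = 5920)) gens mainOK (by decide +kernel) (by decide) (by decide +kernel)

end Cfsg.Agent.J4Rep94.B1320
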